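import Groth.Agent.BlowUpLib.Chart
import Groth.Agent.ModPairLib.BlowUp
import Groth.Agent.ModPairLib.Coprod

/-!
# The projective spectrum of the Rees algebra is the blowing up
-/

universe u

open CategoryTheory Limits AlgebraicGeometry

namespace Groth.Agent.BlowUpLib

theorem isEffCartier_comap_flat {X Y : Scheme.{u}} (f : X ⟶ Y) [Flat f] {I : Y.IdealSheafData}
    (h : BlowUp.IsEffCartierIdeal I) : BlowUp.IsEffCartierIdeal (I.comap f) := by
  have := ModPairLib.isAffineHom_interior (ModPairLib.isLocPrincipal_of_isEffCartier h)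
  have := ModPairLib.isSchemeTheoreticallyDominant_interior h
  have : IsSchemeTheoreticallyDominant (f ⁻¹ᵁ ModPair.interior I).ι :=
    IsSchemeTheoreticallyDominant.of_isPullback (isPullback_morphismRestrict _ _)
  exact (ModPairLib.comap_preimage_dense _ h _).2

variable {A : Type u} [CommRing A] (I : Ideal A)

/-- The centre as an ideal sheaf on `Spec A`. -/
noncomputable abbrev centre : (Spec (CommRingCat.of A)).IdealSheafData :=
  Scheme.IdealSheafData.ofIdealTop (I.map (Scheme.ΓSpecIso (CommRingCat.of A)).inv.hom)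

theorem centre_top :
    (centre I).ideal ⟨⊤, isAffineOpen_top _⟩ = I.map (Scheme.ΓSpecIso (CommRingCat.of A)).inv.hom := by
  rw [Scheme.IdealSheafData.ofIdealTop_ideal]
  erw [(Spec (CommRingCat.of A)).presheaf.map_id, Ideal.map_id]

variable {Y : Scheme.{u}}

/-- The ring map of an affine open of a scheme over `Spec A`. -/
noncomputable def strHom (g : Y ⟶ Spec (CommRingCat.of A)) (W : Y.Opens) : A →+* Γ(Y, W) :=
  ((Scheme.ΓSpecIso (CommRingCat.of A)).inv ≫ g.appLE ⊤ W le_top).hom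

theorem ideal_comap_centre (g : Y ⟶ Spec (CommRingCat.of A)) (W : Y.affineOpens) :
    ((centre I).comap g).ideal W = I.map (strHom g W.1) := by
  rw [ModPairLib.ideal_comap _ g ⟨⊤, isAffineOpen_top _⟩ W le_top, centre_top, Ideal.map_map]
  rfl

theorem SpecMap_strHom (g : Y ⟶ Spec (CommRingCat.of A)) (W : Y.affineOpens) :
    Spec.map (CommRingCat.ofHom (strHom g W.1)) = W.2.fromSpec ≫ g := by
  rw [← IsAffineOpen.SpecMap_appLE_fromSpec g (isAffineOpen_top _) W.2 le_top,
    IsAffineOpen.fromSpec_top, Scheme.isoSpec_Spec_inv, ← Spec.map_comp]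
  rfl

/-- An element `x/a` of the affine blow-up algebra. -/
noncomputable def frac (a b : I) : BlowUp.affineAlgebra A I (b : A) :=
  ⟨IsLocalization.mk' (Localization.Away (b : A)) (a : A) ⟨(b : A), Submonoid.mem_powers _⟩,
    Algebra.subset_adjoin ⟨a, a.2, rfl⟩⟩

theorem frac_mul (a b : I) :
    frac I a b * algebraMap A (BlowUp.affineAlgebra A I (b : A)) b =
      algebraMap A (BlowUp.affineAlgebra A I (b : A)) a :=
  Subtype.ext (IsLocalization.mk'_spec (Localization.Away (b : A)) (a : A)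
    ⟨(b : A), Submonoid.mem_powers _⟩)

variable {R : Type u} [CommRing R]

theorem hom_ext_affineAlgebra (a : I) {ψ ψ' : BlowUp.affineAlgebra A I (a : A) →+* R} {φ : A →+* R}
    (h : ψ.comp (algebraMap A _) = φ) (h' : ψ'.comp (algebraMap A _) = φ)
    (ha : φ a ∈ nonZeroDivisors R) : ψ = ψ' := by
  refine RingHom.ext fun ⟨q, hq⟩ => ?_
  change q ∈ Algebra.adjoin _ _ at hq
  induction hq using Algebra.adjoin_induction with
  | mem q hq =>
    obtain ⟨x, hx, rfl⟩ := hq
    have e1 := congrArg ψ (frac_mul I ⟨x, hx⟩ a)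
    have e2 := congrArg ψ' (frac_mul I ⟨x, hx⟩ a)
    rw [map_mul, ← RingHom.comp_apply ψ, ← RingHom.comp_apply ψ, h] at e1
    rw [map_mul, ← RingHom.comp_apply ψ', ← RingHom.comp_apply ψ', h'] at e2
    have e3 : (ψ (frac I ⟨x, hx⟩ a) - ψ' (frac I ⟨x, hx⟩ a)) * φ a = 0 := by
      rw [sub_mul, e1, e2, sub_self]
    exact sub_eq_zero.mp (mem_nonZeroDivisors_iff_right.mp ha _ e3)
  | algebraMap r => exact (congrArg (· r) h).trans (congrArg (· r) h').symm
  | add p q hp hq ihp ihq =>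
    exact ((map_add ψ ⟨p, hp⟩ ⟨q, hq⟩).trans (congrArg₂ (· + ·) ihp ihq)).trans
      (map_add ψ' ⟨p, hp⟩ ⟨q, hq⟩).symm
  | mul p q hp hq ihp ihq =>
    exact ((map_mul ψ ⟨p, hp⟩ ⟨q, hq⟩).trans (congrArg₂ (· * ·) ihp ihq)).trans
      (map_mul ψ' ⟨p, hp⟩ ⟨q, hq⟩).symm

theorem exists_hom_affineAlgebra (a : I) (φ : A →+* R) (ha : φ a ∈ nonZeroDivisors R)
    (hI : I.map φ ≤ Ideal.span {φ a}) :
    ∃ ψ : BlowUp.affineAlgebra A I (a : A) →+* R, ψ.comp (algebraMap A _) = φ := by
  let L := Localization.Away (φ a)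
  have hinj : Function.Injective (algebraMap R L) :=
    IsLocalization.injective L (M := Submonoid.powers (φ a)) (Submonoid.powers_le.mpr ha)
  let lA : Localization.Away (a : A) →+* L :=
    IsLocalization.Away.lift (a : A) (g := (algebraMap R L).comp φ)
      (IsLocalization.Away.algebraMap_isUnit (φ a))
  have hlift : ∀ r : A, lA (algebraMap A (Localization.Away (a : A)) r) = algebraMap R L (φ r) :=
    fun r => IsLocalization.Away.lift_eq (a : A) _ r
  have hlA : ∀ q : BlowUp.affineAlgebra A I (a : A), ∃ z : R, algebraMap R L z = lA q := by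
    rintro ⟨q, hq⟩
    change q ∈ Algebra.adjoin _ _ at hq
    induction hq using Algebra.adjoin_induction with
    | mem q hq =>
      obtain ⟨x, hx, rfl⟩ := hq
      obtain ⟨z, hz⟩ := Ideal.mem_span_singleton'.mp (hI (Ideal.mem_map_of_mem φ hx))
      refine ⟨z, ?_⟩
      have hu : IsUnit (algebraMap R L (φ a)) := IsLocalization.Away.algebraMap_isUnit (φ a)
      refine hu.mul_left_inj.mp ?_
      rw [← map_mul, hz, ← hlift a, ← map_mul, IsLocalization.mk'_spec]
      exact (hlift x).symm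
    | algebraMap r => exact ⟨φ r, (hlift r).symm⟩
    | add p q _ _ hp hq =>
      obtain ⟨z, hz⟩ := hp; obtain ⟨w, hw⟩ := hq
      exact ⟨z + w, by rw [map_add, hz, hw]; exact (map_add lA _ _).symm⟩
    | mul p q _ _ hp hq =>
      obtain ⟨z, hz⟩ := hp; obtain ⟨w, hw⟩ := hq
      exact ⟨z * w, by rw [map_mul, hz, hw]; exact (map_mul lA _ _).symm⟩
  choose ψ₀ hψ₀ using hlA
  refine ⟨{ toFun := ψ₀
            map_one' := hinj (by rw [hψ₀, map_one]; exact map_one lA)
            map_mul' := fun p q => hinj (by rw [map_mul, hψ₀, hψ₀, hψ₀]; exact map_mul lA _ _)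
            map_zero' := hinj (by rw [hψ₀, map_zero]; exact map_zero lA)
            map_add' := fun p q => hinj (by rw [map_add, hψ₀, hψ₀, hψ₀]; exact map_add lA _ _) }, ?_⟩
  exact RingHom.ext fun r => hinj ((hψ₀ _).trans (hlift r))

theorem frac_isUnit (a b : I) (ψ : BlowUp.affineAlgebra A I (b : A) →+* R) (φ : A →+* R)
    (h : ψ.comp (algebraMap A _) = φ) (ha : φ a ∈ nonZeroDivisors R)
    (hI : I.map φ ≤ Ideal.span {φ a}) : IsUnit (ψ (frac I a b)) := by
  obtain ⟨t, ht⟩ := Ideal.mem_span_singleton'.mp (hI (Ideal.mem_map_of_mem φ b.2))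
  have e1 := congrArg ψ (frac_mul I a b)
  rw [map_mul, ← RingHom.comp_apply ψ, ← RingHom.comp_apply ψ, h, ← ht, ← mul_assoc] at e1
  have e2 : (ψ (frac I a b) * t - 1) * φ a = 0 := by rw [sub_mul, e1, one_mul, sub_self]
  exact IsUnit.of_mul_eq_one t (sub_eq_zero.mp (mem_nonZeroDivisors_iff_right.mp ha _ e2))

theorem chartSpec_ext {R : CommRingCat.{u}} (a : I) {φ : A →+* R}
    (s s' : Spec R ⟶ Spec (CommRingCat.of (BlowUp.affineAlgebra A I (a : A))))
    (h : s ≫ chart I a ≫ toBase I = Spec.map (CommRingCat.ofHom φ))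
    (h' : s' ≫ chart I a ≫ toBase I = Spec.map (CommRingCat.ofHom φ))
    (ha : φ a ∈ nonZeroDivisors R) : s = s' := by
  obtain ⟨ψ, rfl⟩ := Spec.map_surjective s
  obtain ⟨ψ', rfl⟩ := Spec.map_surjective s'
  rw [chart_toBase, ← Spec.map_comp] at h h'
  exact congrArg Spec.map (CommRingCat.hom_ext (hom_ext_affineAlgebra I a
    (congrArg CommRingCat.Hom.hom (Spec.map_injective h))
    (congrArg CommRingCat.Hom.hom (Spec.map_injective h')) ha))

/-- Where the pullback of `a` generates, a lift lands in the chart of `a`. -/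
theorem range_subset_chart {g : Y ⟶ Spec (CommRingCat.of A)}
    (hg : BlowUp.IsEffCartierIdeal ((centre I).comap g)) (h : Y ⟶ localBlowUp I)
    (hh : h ≫ toBase I = g) (a : I) (W : Y.affineOpens)
    (hW : ((centre I).comap g).ideal W = Ideal.span {strHom g W.1 a}) :
    ∀ z ∈ W.1, h z ∈ (chart I a).opensRange := by
  intro z hz
  obtain ⟨b, hb⟩ := chart_covers I (h z)
  obtain ⟨r, hr, hzr⟩ := W.2.exists_basicOpen_le (V := h ⁻¹ᵁ (chart I b).opensRange) ⟨z, hb⟩ hz
  let D : Y.affineOpens := ⟨Y.basicOpen r, W.2.basicOpen r⟩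
  have hDW : D.1 ≤ W.1 := Y.basicOpen_le r
  have hφ : strHom g D.1 = (Y.presheaf.map (homOfLE hDW).op).hom.comp (strHom g W.1) := by
    rw [strHom, strHom, ← CommRingCat.hom_comp, Category.assoc, Scheme.Hom.appLE_map]
  have hD : ((centre I).comap g).ideal D = Ideal.span {strHom g D.1 a} := by
    rw [← ((centre I).comap g).map_ideal (U := D) (V := W) hDW, hW, Ideal.map_span,
      Set.image_singleton, hφ]
    rfl
  have ha0 := ModPairLib.generator_mem_nonZeroDivisors hg hD
  have hle : Set.range (D.2.fromSpec ≫ h) ⊆ Set.range (chart I b) := by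
    rintro _ ⟨p, rfl⟩
    exact hr (D.2.range_fromSpec.le (Set.mem_range_self p))
  obtain ⟨ψ, hψ⟩ := Spec.map_surjective (IsOpenImmersion.lift (chart I b) (D.2.fromSpec ≫ h) hle)
  have hψ2 : Spec.map ψ ≫ chart I b = D.2.fromSpec ≫ h := by
    rw [hψ, IsOpenImmersion.lift_fac]
  have hψφ : ψ.hom.comp (algebraMap A _) = strHom g D.1 := by
    have : Spec.map ψ ≫ chart I b ≫ toBase I = Spec.map (CommRingCat.ofHom (strHom g D.1)) := by
      rw [reassoc_of% hψ2, hh, SpecMap_strHom]
    rw [chart_toBase, ← Spec.map_comp] at this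
    exact congrArg CommRingCat.Hom.hom (Spec.map_injective this)
  have hu := frac_isUnit I a b ψ.hom (strHom g D.1) hψφ ha0 (by rw [← hD, ideal_comap_centre])
  obtain ⟨p, hp⟩ : z ∈ Set.range D.2.fromSpec := by rw [D.2.range_fromSpec]; exact hzr
  have hp2 : h z = chart I b (Spec.map ψ p) := by
    rw [← hp, ← Scheme.Hom.comp_apply, ← Scheme.Hom.comp_apply, hψ2]
  rw [hp2]
  exact chart_overlap I a b fun hmem => p.2.ne_top (Ideal.eq_top_of_isUnit_mem _ hmem hu)

/-- Local existence of the lift. -/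
theorem exists_local_lift {g : Y ⟶ Spec (CommRingCat.of A)}
    (hg : BlowUp.IsEffCartierIdeal ((centre I).comap g)) (y : Y) :
    ∃ (W : Y.affineOpens) (a : I), y ∈ W.1 ∧
      ((centre I).comap g).ideal W = Ideal.span {strHom g W.1 a} := by
  obtain ⟨W, e, hyW, c, hc, hW⟩ :=
    ModPairLib.exists_chart_blowUp hg y ⟨⊤, isAffineOpen_top _⟩ trivial
  rw [centre_top] at hc
  obtain ⟨a, ha, rfl⟩ :=
    (Ideal.mem_map_iff_of_surjective _
      (ConcreteCategory.bijective_of_isIso (Scheme.ΓSpecIso (CommRingCat.of A)).inv).2).mp hc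
  exact ⟨W, ⟨a, ha⟩, hyW, hW⟩

theorem unique_lift {g : Y ⟶ Spec (CommRingCat.of A)}
    (hg : BlowUp.IsEffCartierIdeal ((centre I).comap g)) (h h' : Y ⟶ localBlowUp I)
    (hh : h ≫ toBase I = g) (hh' : h' ≫ toBase I = g) : h = h' := by
  choose W a hyW hW using exists_local_lift I hg
  refine Scheme.Cover.hom_ext (Y.openCoverOfIsOpenCover (fun y => (W y).1)
    (top_le_iff.mp fun y _ => TopologicalSpace.Opens.mem_iSup.mpr ⟨y, hyW y⟩)) _ _ fun y => ?_
  show (W y).1.ι ≫ h = (W y).1.ι ≫ h'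
  suffices (W y).2.fromSpec ≫ h = (W y).2.fromSpec ≫ h' by
    rw [← IsAffineOpen.isoSpec_hom_fromSpec (W y).2, Category.assoc, Category.assoc, this]
  have key : ∀ k : Y ⟶ localBlowUp I, k ≫ toBase I = g →
      Set.range ((W y).2.fromSpec ≫ k) ⊆ Set.range (chart I (a y)) := by
    rintro k hk _ ⟨p, rfl⟩
    exact range_subset_chart I hg k hk (a y) (W y) (hW y) _
      ((W y).2.range_fromSpec.le (Set.mem_range_self p))
  rw [← IsOpenImmersion.lift_fac _ _ (key h hh), ← IsOpenImmersion.lift_fac _ _ (key h' hh')]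
  congr 1
  refine chartSpec_ext I (a y) (φ := strHom g (W y).1) _ _ ?_ ?_
    (ModPairLib.generator_mem_nonZeroDivisors hg (hW y))
  · rw [IsOpenImmersion.lift_fac_assoc, Category.assoc, hh, SpecMap_strHom]
  · rw [IsOpenImmersion.lift_fac_assoc, Category.assoc, hh', SpecMap_strHom]

theorem exists_lift {g : Y ⟶ Spec (CommRingCat.of A)}
    (hg : BlowUp.IsEffCartierIdeal ((centre I).comap g)) :
    ∃ h : Y ⟶ localBlowUp I, h ≫ toBase I = g := by
  choose W a hyW hW using exists_local_lift I hg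
  choose ψ hψ using fun y => exists_hom_affineAlgebra I (a y) (strHom g (W y).1)
    (ModPairLib.generator_mem_nonZeroDivisors hg (hW y))
    (by rw [← ideal_comap_centre, hW y])
  let k : ∀ y, (W y).1.toScheme ⟶ localBlowUp I := fun y =>
    (W y).2.isoSpec.hom ≫ Spec.map (CommRingCat.ofHom (ψ y)) ≫ chart I (a y)
  have hk : ∀ y, k y ≫ toBase I = (W y).1.ι ≫ g := by
    intro y
    simp only [k, Category.assoc]
    rw [chart_toBase, ← Spec.map_comp, ← CommRingCat.ofHom_comp, hψ, SpecMap_strHom,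
      IsAffineOpen.isoSpec_hom_fromSpec_assoc]
  let 𝒰 := Y.openCoverOfIsOpenCover (fun y => (W y).1)
    (top_le_iff.mp fun y _ => TopologicalSpace.Opens.mem_iSup.mpr ⟨y, hyW y⟩)
  refine ⟨𝒰.glueMorphisms k fun y z => ?_, 𝒰.hom_ext _ _ fun y => ?_⟩
  · have : IsOpenImmersion (pullback.fst (𝒰.f y) (𝒰.f z) ≫ (W y).1.ι) :=
      inferInstanceAs (IsOpenImmersion (pullback.fst (W y).1.ι (W z).1.ι ≫ (W y).1.ι))
    refine unique_lift I (g := (pullback.fst (𝒰.f y) (𝒰.f z) ≫ (W y).1.ι) ≫ g) ?_ _ _ ?_ ?_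
    · rw [Scheme.IdealSheafData.comap_comp]
      exact isEffCartier_comap_flat _ hg
    · exact (Category.assoc _ _ _).trans ((congrArg (pullback.fst (𝒰.f y) (𝒰.f z) ≫ ·) (hk y)).trans
        (Category.assoc _ _ _).symm)
    · exact (Category.assoc _ _ _).trans ((congrArg (pullback.snd (𝒰.f y) (𝒰.f z) ≫ ·) (hk z)).trans
        ((Category.assoc _ _ _).symm.trans (congrArg (· ≫ g) pullback.condition.symm)))
  · rw [𝒰.ι_glueMorphisms_assoc]; exact hk y

/-- `Proj` of the Rees algebra is the blowing up. -/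
theorem isBlowUp_local : BlowUp.IsBlowUp (toBase I) (centre I) := by
  refine ⟨ModPairLib.isEffCartier_of_comap (chart I)
    (fun x => have ⟨a, z, hz⟩ := chart_covers I x; ⟨a, z, hz⟩) fun a => ?_, fun Y g hg => ?_⟩
  · rw [← Scheme.IdealSheafData.comap_comp, chart_toBase]
    set α := algebraMap A (BlowUp.affineAlgebra A I (a : A)) with hα
    set ε := (Scheme.ΓSpecIso (CommRingCat.of (BlowUp.affineAlgebra A I (a : A)))).inv.hom
    intro z
    have hαa : α a ∈ nonZeroDivisors (BlowUp.affineAlgebra A I (a : A)) :=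
      mem_nonZeroDivisors_iff_right.mpr fun q hq => Subtype.ext (mem_nonZeroDivisors_iff_right.mp
        (IsLocalization.Away.algebraMap_isUnit (S := Localization.Away (a : A))
          (a : A)).mem_nonZeroDivisors q.1 (congrArg Subtype.val hq))
    refine ⟨⟨⊤, isAffineOpen_top _⟩, trivial, ε (α a),
      ModPairLib.mem_nonZeroDivisors_map ε (ConcreteCategory.bijective_of_isIso _) hαa, ?_⟩
    rw [ModPairLib.comap_ideal_affine, centre_top, Ideal.map_map, ← CommRingCat.hom_comp,
      ← Scheme.ΓSpecIso_inv_naturality, CommRingCat.hom_comp, ← Ideal.map_map, CommRingCat.hom_ofHom,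
      ← Set.image_singleton, ← Ideal.map_span]
    congr 1
    refine le_antisymm (Ideal.map_le_iff_le_comap.mpr fun x hx => Ideal.mem_span_singleton'.mpr
      ⟨frac I ⟨x, hx⟩ a, frac_mul I ⟨x, hx⟩ a⟩) ?_
    exact (Ideal.span_singleton_le_iff_mem _).mpr (Ideal.mem_map_of_mem α a.2)
  · obtain ⟨h, hh⟩ := exists_lift I hg
    exact ⟨h, hh, fun h' hh' => unique_lift I hg h' h hh' hh⟩

end Groth.Agent.BlowUpLib
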