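import Groth.Agent.BlowUpLib.Local
import Mathlib.AlgebraicGeometry.RelativeGluing
import Mathlib.AlgebraicGeometry.Sites.SmallAffineZariski

/-!
# Existence and first properties of blowings up
-/

universe u

open CategoryTheory Limits AlgebraicGeometry

namespace Groth.Agent.BlowUpLib

variable {X X' Y Y' : Scheme.{u}}

/-- The identity blows up the unit ideal. -/
theorem isEffCartier_top (X : Scheme.{u}) : BlowUp.IsEffCartierIdeal (⊤ : X.IdealSheafData) := by
  intro x
  obtain ⟨_, ⟨U, hU, rfl⟩, hxU, -⟩ := X.isBasis_affineOpens.exists_subset_of_mem_open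
    (Set.mem_univ x) isOpen_univ
  exact ⟨⟨U, hU⟩, hxU, 1, one_mem _, by simp⟩

theorem isBlowUp_id_top (X : Scheme.{u}) : BlowUp.IsBlowUp (𝟙 X) ⊤ :=
  ⟨by rw [Scheme.IdealSheafData.comap_id]; exact isEffCartier_top X,
    fun _ g _ => ⟨g, Category.comp_id g, fun h hh => (Category.comp_id h).symm.trans hh⟩⟩

theorem isBlowUp_hom_ext {b : Y ⟶ X} {C : X.IdealSheafData} (hb : BlowUp.IsBlowUp b C)
    {Z : Scheme.{u}} {h h' : Z ⟶ Y} (e : h ≫ b = h' ≫ b)
    (hC : BlowUp.IsEffCartierIdeal (C.comap (h' ≫ b))) : h = h' := by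
  obtain ⟨_, -, hu⟩ := hb.2 Z (h' ≫ b) hC
  exact (hu h e).trans (hu h' rfl).symm

/-- Blow-ups are unique up to unique isomorphism. -/
theorem exists_iso {b : Y ⟶ X} {b' : Y' ⟶ X} {C : X.IdealSheafData} (hb : BlowUp.IsBlowUp b C)
    (hb' : BlowUp.IsBlowUp b' C) : ∃ e : Y ≅ Y', e.hom ≫ b' = b := by
  obtain ⟨u, hu, -⟩ := hb'.2 Y b hb.1
  obtain ⟨v, hv, -⟩ := hb.2 Y' b' hb'.1
  exact ⟨⟨u, v, isBlowUp_hom_ext hb (by rw [Category.assoc, hv, hu, Category.id_comp])
      (by rw [Category.id_comp]; exact hb.1),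
    isBlowUp_hom_ext hb' (by rw [Category.assoc, hu, hv, Category.id_comp])
      (by rw [Category.id_comp]; exact hb'.1)⟩, hu⟩

theorem isBlowUp_comp_iso {b : Y ⟶ X} (e : X ⟶ X') [IsIso e] {C : X'.IdealSheafData}
    (hb : BlowUp.IsBlowUp b (C.comap e)) : BlowUp.IsBlowUp (b ≫ e) C := by
  refine ⟨by rw [Scheme.IdealSheafData.comap_comp]; exact hb.1, fun Z g hg => ?_⟩
  obtain ⟨h, hh, hu⟩ := hb.2 Z (g ≫ inv e) (by
    rw [← Scheme.IdealSheafData.comap_comp, Category.assoc, IsIso.inv_hom_id, Category.comp_id]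
    exact hg)
  exact ⟨h, by dsimp only at *; rw [reassoc_of% hh, IsIso.inv_hom_id, Category.comp_id],
    fun h' hh' => hu h' (by dsimp only at *; rw [← hh', Category.assoc, Category.assoc,
      IsIso.hom_inv_id, Category.comp_id])⟩

theorem isBlowUp_iso_comp {b : Y ⟶ X} (e : Y' ⟶ Y) [IsIso e] {C : X.IdealSheafData}
    (hb : BlowUp.IsBlowUp b C) : BlowUp.IsBlowUp (e ≫ b) C := by
  refine ⟨by rw [Scheme.IdealSheafData.comap_comp]; exact isEffCartier_comap_flat e hb.1,
    fun Z g hg => ?_⟩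
  obtain ⟨h, hh, hu⟩ := hb.2 Z g hg
  exact ⟨h ≫ inv e, by dsimp only at *; rw [Category.assoc, IsIso.inv_hom_id_assoc, hh],
    fun h' hh' => by
      have := hu (h' ≫ e) (by dsimp only at *; rw [Category.assoc]; exact hh')
      rw [← this, Category.assoc, IsIso.hom_inv_id, Category.comp_id]⟩

/-- Flat base change. -/
theorem isBlowUp_of_isPullback {b : Y ⟶ X} {b' : Y' ⟶ X'} {q : X' ⟶ X} {p : Y' ⟶ Y} [Flat q]
    (H : IsPullback b' p q b) {C : X.IdealSheafData} (hb : BlowUp.IsBlowUp b C) :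
    BlowUp.IsBlowUp b' (C.comap q) := by
  have : Flat p := MorphismProperty.of_isPullback (P := @Flat) H ‹_›
  refine ⟨?_, fun Z g hg => ?_⟩
  · rw [← Scheme.IdealSheafData.comap_comp, H.w, Scheme.IdealSheafData.comap_comp]
    exact isEffCartier_comap_flat p hb.1
  · rw [← Scheme.IdealSheafData.comap_comp] at hg
    obtain ⟨h, hh, hu⟩ := hb.2 Z (g ≫ q) hg
    refine ⟨H.lift g h hh.symm, H.lift_fst _ _ _, fun h' hh' => H.hom_ext ?_ ?_⟩
    · rw [hh', H.lift_fst]
    · rw [H.lift_snd]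
      exact hu (h' ≫ p) (by dsimp only at *; rw [Category.assoc, ← H.w, reassoc_of% hh'])

/-- Off the centre a blowing up is an isomorphism. -/
theorem isIso_restrict {b : Y ⟶ X} {C : X.IdealSheafData} (hb : BlowUp.IsBlowUp b C)
    (U : X.Opens) (hU : U ≤ ModPair.interior C) : IsIso (b ∣_ U) := by
  have h1 := isBlowUp_of_isPullback (isPullback_morphismRestrict b U) hb
  have h2 : C.comap U.ι = ⊤ := by
    rw [← Scheme.IdealSheafData.support_eq_bot_iff]
    ext z
    simp only [Scheme.IdealSheafData.support_comap, TopologicalSpace.Closeds.coe_bot,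
      Set.mem_empty_iff_false, iff_false]
    exact fun hz => hU z.2 hz
  rw [h2] at h1
  obtain ⟨e, he⟩ := exists_iso h1 (isBlowUp_id_top U.toScheme)
  rw [← he, Category.comp_id]
  infer_instance

/-- Being a blowing up is local on the base. -/
theorem isBlowUp_of_local {b : Y ⟶ X} {C : X.IdealSheafData} {ι : Type*} {V : ι → Scheme.{u}}
    (j : ∀ i, V i ⟶ X) [∀ i, IsOpenImmersion (j i)] (hj : ∀ x, ∃ i v, j i v = x)
    {P : ι → Scheme.{u}} (b' : ∀ i, P i ⟶ V i) (p : ∀ i, P i ⟶ Y)
    (H : ∀ i, IsPullback (b' i) (p i) (j i) b)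
    (hb : ∀ i, BlowUp.IsBlowUp (b' i) (C.comap (j i))) : BlowUp.IsBlowUp b C := by
  have : ∀ i, IsOpenImmersion (p i) := fun i =>
    MorphismProperty.of_isPullback (P := @IsOpenImmersion) (H i) inferInstance
  have hp : ∀ y, ∃ i z, p i z = y := fun y => by
    obtain ⟨i, v, hv⟩ := hj (b y)
    obtain ⟨z, -, hz⟩ := Scheme.exists_preimage_of_isPullback (H i) v y hv
    exact ⟨i, z, hz⟩
  refine ⟨ModPairLib.isEffCartier_of_comap p hp fun i => ?_, fun Z g hg => ?_⟩
  · rw [← Scheme.IdealSheafData.comap_comp, ← (H i).w, Scheme.IdealSheafData.comap_comp]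
    exact (hb i).1
  have hZ : ∀ z, ∃ i w, pullback.fst g (j i) w = z := fun z => by
    obtain ⟨i, v, hv⟩ := hj (g z)
    obtain ⟨w, h1, -⟩ := Scheme.Pullback.exists_preimage_pullback z v hv.symm
    exact ⟨i, w, h1⟩
  have hgi : ∀ i, BlowUp.IsEffCartierIdeal ((C.comap (j i)).comap (pullback.snd g (j i))) := fun i => by
    rw [← Scheme.IdealSheafData.comap_comp, ← pullback.condition, Scheme.IdealSheafData.comap_comp]
    exact isEffCartier_comap_flat _ hg
  choose l hl hlu using fun i => (hb i).2 _ _ (hgi i)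
  dsimp only at hl hlu
  have huniq : ∀ {Z' : Scheme.{u}} (q : Z' ⟶ Z) [Flat q] (h h' : Z' ⟶ Y),
      h ≫ b = q ≫ g → h' ≫ b = q ≫ g → ∀ i, (∀ z, ∃ v, j i v = g (q z)) → h = h' := by
    intro Z' q _ h h' hh hh' i hi
    have hr : ∀ k : Z' ⟶ Y, k ≫ b = q ≫ g → Set.range k ⊆ Set.range (p i) := by
      rintro k hk _ ⟨z, rfl⟩
      obtain ⟨v, hv⟩ := hi z
      obtain ⟨w, -, hw⟩ := Scheme.exists_preimage_of_isPullback (H i) v (k z) (by
        rw [hv, ← Scheme.Hom.comp_apply, ← Scheme.Hom.comp_apply, hk])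
      exact ⟨w, hw⟩
    rw [← IsOpenImmersion.lift_fac _ _ (hr h hh), ← IsOpenImmersion.lift_fac _ _ (hr h' hh')]
    congr 1
    refine isBlowUp_hom_ext (hb i) ?_ ?_
    · rw [← cancel_mono (j i), Category.assoc, Category.assoc, (H i).w,
        IsOpenImmersion.lift_fac_assoc, IsOpenImmersion.lift_fac_assoc, hh, hh']
    · rw [← Scheme.IdealSheafData.comap_comp, Category.assoc, (H i).w,
        IsOpenImmersion.lift_fac_assoc, hh', Scheme.IdealSheafData.comap_comp]
      exact isEffCartier_comap_flat q hg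
  let 𝒰 : Z.OpenCover :=
    { I₀ := Z
      X := fun z => pullback g (j (hZ z).choose)
      f := fun z => pullback.fst g (j (hZ z).choose)
      mem₀ := by
        rw [Scheme.presieve₀_mem_precoverage_iff]
        exact ⟨fun z => ⟨z, (hZ z).choose_spec⟩, fun _ => inferInstance⟩ }
  have hlp : ∀ z, (l (hZ z).choose ≫ p (hZ z).choose) ≫ b = 𝒰.f z ≫ g := fun z => by
    rw [Category.assoc, ← (H _).w, reassoc_of% hl]
    exact pullback.condition.symm
  have hcomp : ∀ z w, pullback.fst (𝒰.f z) (𝒰.f w) ≫ l (hZ z).choose ≫ p (hZ z).choose =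
      pullback.snd (𝒰.f z) (𝒰.f w) ≫ l (hZ w).choose ≫ p (hZ w).choose := fun z w => by
    have : IsOpenImmersion (pullback.fst (𝒰.f z) (𝒰.f w) ≫ 𝒰.f z) :=
      inferInstanceAs (IsOpenImmersion (pullback.fst (pullback.fst g (j (hZ z).choose))
        (pullback.fst g (j (hZ w).choose)) ≫ pullback.fst g (j (hZ z).choose)))
    refine huniq (pullback.fst (𝒰.f z) (𝒰.f w) ≫ 𝒰.f z) _ _ ?_ ?_ (hZ z).choose fun v => ?_
    · rw [Category.assoc, hlp, Category.assoc]
    · rw [Category.assoc, hlp, ← Category.assoc, ← pullback.condition]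
    · refine ⟨pullback.snd g (j (hZ z).choose) (pullback.fst (𝒰.f z) (𝒰.f w) v), ?_⟩
      rw [← Scheme.Hom.comp_apply, ← Scheme.Hom.comp_apply, ← Scheme.Hom.comp_apply]
      congr 1
      rw [Category.assoc, ← pullback.condition (f := g)]
  have hh : 𝒰.glueMorphisms (fun z => l (hZ z).choose ≫ p (hZ z).choose) hcomp ≫ b = g :=
    𝒰.hom_ext _ _ fun z => by rw [𝒰.ι_glueMorphisms_assoc]; exact hlp z
  refine ⟨_, hh, fun h' hh' => 𝒰.hom_ext _ _ fun z => ?_⟩
  have : IsOpenImmersion (𝒰.f z) :=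
    inferInstanceAs (IsOpenImmersion (pullback.fst g (j (hZ z).choose)))
  refine huniq (𝒰.f z) _ _ ?_ ?_ (hZ z).choose fun v =>
    ⟨pullback.snd g (j (hZ z).choose) v, ?_⟩
  · rw [Category.assoc, hh']
  · rw [Category.assoc, hh]
  · rw [← Scheme.Hom.comp_apply, ← Scheme.Hom.comp_apply, ← pullback.condition (f := g)]

variable (C : X.IdealSheafData)

theorem comap_fromSpec (U : X.affineOpens) : C.comap U.2.fromSpec = centre (C.ideal U) := by
  refine Scheme.IdealSheafData.ext_of_isAffine ?_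
  rw [centre_top, ModPairLib.comap_ideal_of_opensRange U.2.fromSpec C U U.2.opensRange_fromSpec]
  congr 2
  rw [Scheme.Hom.appLE, U.2.fromSpec_app_self, Category.assoc, ← Functor.map_comp]
  erw [(Spec Γ(X, U.1)).presheaf.map_id]
  exact Category.comp_id _

/-- The blowing up over an affine open. -/
noncomputable abbrev pieceObj (U : X.AffineZariskiSite) : Scheme.{u} :=
  localBlowUp (C.ideal ⟨U.1, U.2⟩)

/-- Its structure map. -/
noncomputable def pieceMap (U : X.AffineZariskiSite) : pieceObj C U ⟶ U.1.toScheme :=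
  toBase (C.ideal ⟨U.1, U.2⟩) ≫ U.2.isoSpec.inv

theorem isBlowUp_piece (U : X.AffineZariskiSite) :
    BlowUp.IsBlowUp (pieceMap C U) (C.comap U.1.ι) := by
  refine isBlowUp_comp_iso _ ?_
  have e := comap_fromSpec C ⟨U.1, U.2⟩
  rw [← IsAffineOpen.isoSpec_inv_ι] at e
  rw [← Scheme.IdealSheafData.comap_comp]
  exact e.symm ▸ isBlowUp_local (C.ideal ⟨U.1, U.2⟩)

theorem pieceMap_cartier {U V : X.AffineZariskiSite} (i : U ≤ V) :
    BlowUp.IsEffCartierIdeal ((C.comap V.1.ι).comap
      (pieceMap C U ≫ X.homOfLE (Scheme.AffineZariskiSite.toOpens_mono i))) := by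
  rw [← Scheme.IdealSheafData.comap_comp, Category.assoc]
  erw [X.homOfLE_ι]
  rw [Scheme.IdealSheafData.comap_comp]
  exact (isBlowUp_piece C U).1

/-- The comparison maps. -/
noncomputable def pieceHom {U V : X.AffineZariskiSite} (i : U ≤ V) : pieceObj C U ⟶ pieceObj C V :=
  ((isBlowUp_piece C V).2 _ _ (pieceMap_cartier C i)).exists.choose

theorem pieceHom_comp {U V : X.AffineZariskiSite} (i : U ≤ V) :
    pieceHom C i ≫ pieceMap C V =
      pieceMap C U ≫ X.homOfLE (Scheme.AffineZariskiSite.toOpens_mono i) :=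
  ((isBlowUp_piece C V).2 _ _ (pieceMap_cartier C i)).exists.choose_spec

theorem pieceHom_unique {U V : X.AffineZariskiSite} (i : U ≤ V) (h : pieceObj C U ⟶ pieceObj C V)
    (hh : h ≫ pieceMap C V =
      pieceMap C U ≫ X.homOfLE (Scheme.AffineZariskiSite.toOpens_mono i)) : h = pieceHom C i :=
  ((isBlowUp_piece C V).2 _ _ (pieceMap_cartier C i)).unique hh (pieceHom_comp C i)

theorem isPullback_piece {U V : X.AffineZariskiSite} (i : U ≤ V) :
    IsPullback (pieceMap C U) (pieceHom C i)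
      (X.homOfLE (Scheme.AffineZariskiSite.toOpens_mono i)) (pieceMap C V) := by
  set q := X.homOfLE (Scheme.AffineZariskiSite.toOpens_mono i)
  have hP := IsPullback.of_hasPullback q (pieceMap C V)
  have h1 := isBlowUp_of_isPullback hP (isBlowUp_piece C V)
  rw [← Scheme.IdealSheafData.comap_comp] at h1
  erw [X.homOfLE_ι] at h1
  obtain ⟨e, he⟩ := exists_iso (isBlowUp_piece C U) h1
  refine IsPullback.of_iso hP e.symm (Iso.refl _) (Iso.refl _) (Iso.refl _) ?_ ?_ (by simp) (by simp)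
  · rw [Iso.refl_hom, Category.comp_id, ← he, Iso.symm_hom, Iso.inv_hom_id_assoc]
  · rw [Iso.refl_hom, Category.comp_id, Iso.symm_hom, ← cancel_epi e.hom, Iso.hom_inv_id_assoc]
    refine pieceHom_unique C i _ ?_
    rw [Category.assoc, ← hP.w, reassoc_of% he]

/-- The gluing data. -/
noncomputable def glueData : (Scheme.AffineZariskiSite.directedCover X).RelativeGluingData where
  functor :=
    { obj := pieceObj C
      map := fun i => pieceHom C i.le
      map_id := fun U => (pieceHom_unique C (le_refl U) _ (by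
        rw [Category.id_comp, Scheme.homOfLE_rfl, Category.comp_id])).symm
      map_comp := fun i j => (pieceHom_unique C (i.le.trans j.le) _ (by
        rw [Category.assoc, pieceHom_comp, ← Category.assoc, pieceHom_comp, Category.assoc,
          Scheme.homOfLE_homOfLE])).symm }
  natTrans :=
    { app := fun U => pieceMap C U
      naturality := fun U V i => pieceHom_comp C i.le }
  equifibered := fun {U V} i => (isPullback_piece C i.le).flip

theorem exists_blowUp : ∃ (Y : Scheme.{u}) (b : Y ⟶ X), BlowUp.IsBlowUp b C := by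
  let D := glueData C
  have : (D.functor ⋙ Scheme.forget).IsLocallyDirected :=
    Scheme.Cover.RelativeGluingData.instIsLocallyDirectedI₀CompFunctorForgetOfIsThin ..
  refine ⟨D.glued, D.toBase, ?_⟩
  refine isBlowUp_of_local (fun U : X.AffineZariskiSite => U.1.ι) (fun x => ?_)
    (fun U => pieceMap C U) (fun U => colimit.ι D.functor U)
    (fun U => D.isPullback_natTrans_ι_toBase U) (fun U => isBlowUp_piece C U)
  obtain ⟨_, ⟨W, hW, rfl⟩, hxW, -⟩ := X.isBasis_affineOpens.exists_subset_of_mem_open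
    (Set.mem_univ x) isOpen_univ
  exact ⟨⟨W, hW⟩, ⟨x, hxW⟩, rfl⟩

variable {A : Type u} [CommRing A] (I : Ideal A)

theorem bijective_toZero : Function.Bijective (toZero I) := by
  refine ⟨fun a b h => ?_, fun z => ⟨((z : reesAlgebra I) : Polynomial A).coeff 0, ?_⟩⟩
  · have := congrArg (fun z : deg I 0 => ev I (z : reesAlgebra I)) h
    change ev I (algebraMap A _ a) = ev I (algebraMap A _ b) at this
    rwa [ev_algebraMap, ev_algebraMap] at this
  · exact Subtype.ext (Subtype.ext (eq_monomial I z.2).symm)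

theorem isProper_toBase (hI : I.FG) : IsProper (toBase I) := by
  have : Algebra.FiniteType A (reesAlgebra I) :=
    ⟨(Subalgebra.fg_top _).mpr (reesAlgebra.fg hI)⟩
  have : Algebra.FiniteType (deg I 0) (reesAlgebra I) := by
    obtain ⟨t, ht⟩ := (this : Algebra.FiniteType A (reesAlgebra I)).1
    refine ⟨⟨t, Algebra.eq_top_iff.mpr fun x => ?_⟩⟩
    have hx : x ∈ Algebra.adjoin A (t : Set (reesAlgebra I)) := ht ▸ Algebra.mem_top
    induction hx using Algebra.adjoin_induction with
    | mem x hx => exact Algebra.subset_adjoin hx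
    | algebraMap r => exact Subalgebra.algebraMap_mem _ (toZero I r)
    | add x y _ _ hx hy => exact add_mem hx hy
    | mul x y _ _ hx hy => exact mul_mem hx hy
  have : IsIso (CommRingCat.ofHom (R := A) (S := deg I 0) (toZero I)) :=
    (ConcreteCategory.isIso_iff_bijective
      (CommRingCat.ofHom (R := A) (S := deg I 0) (toZero I))).mpr (bijective_toZero I)
  unfold toBase
  infer_instance

theorem isProper_of_isBlowUp {b : Y ⟶ X} (hb : BlowUp.IsBlowUp b C)
    (hC : BlowUp.IsFiniteTypeIdeal C) : IsProper b := by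
  rw [IsZariskiLocalAtTarget.iff_of_iSup_eq_top (P := @IsProper)
    (fun U : X.affineOpens => U.1) (iSup_affineOpens_eq_top X)]
  intro U
  obtain ⟨e, he⟩ := exists_iso (isBlowUp_of_isPullback (isPullback_morphismRestrict b U.1) hb)
    (isBlowUp_piece C ⟨U.1, U.2⟩)
  have := isProper_toBase _ (hC U)
  rw [← he, pieceMap]
  infer_instance

end Groth.Agent.BlowUpLib
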