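import Groth.Prelude.Def_BlowUp2
import Groth.Prelude.Def_Rees
import Mathlib.AlgebraicGeometry.ProjectiveSpectrum.Proper

/-!
# Charts of the projective spectrum of a Rees algebra
-/

universe u

open CategoryTheory AlgebraicGeometry HomogeneousLocalization Polynomial
open scoped HomogeneousIdeal

namespace Groth.Agent.BlowUpLib

variable {A : Type u} [CommRing A] (I : Ideal A)

/-- The grading of the Rees algebra. -/
abbrev deg : ℕ → Submodule A (reesAlgebra I) := Rees.deg (reesAlgebra I)

/-- The degree one element `a·X` of the Rees algebra. -/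
noncomputable def gen (a : I) : reesAlgebra I :=
  ⟨monomial 1 (a : A), reesAlgebra.monomial_mem.mpr (by rw [pow_one]; exact a.2)⟩

theorem gen_mem (a : I) : gen I a ∈ deg I 1 := fun m hm => by
  show (monomial 1 (a : A)).coeff m = 0
  rw [coeff_monomial]
  exact if_neg fun h => hm h.symm

/-- Evaluation at `X = 1`. -/
noncomputable def ev : reesAlgebra I →+* A :=
  (Polynomial.evalRingHom 1).comp (reesAlgebra I).val.toRingHom

theorem eq_monomial {n : ℕ} {x : reesAlgebra I} (hx : x ∈ deg I n) :
    (x : A[X]) = monomial n ((x : A[X]).coeff n) := by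
  refine Polynomial.ext fun m => ?_
  rw [coeff_monomial]
  split_ifs with h
  · rw [h]
  · exact hx m (Ne.symm h)

theorem ev_eq_coeff {n : ℕ} {x : reesAlgebra I} (hx : x ∈ deg I n) :
    ev I x = (x : A[X]).coeff n := by
  show Polynomial.eval 1 (x : A[X]) = _
  rw [eq_monomial I hx, eval_monomial, one_pow, mul_one, coeff_monomial_same]

theorem ev_mem {n : ℕ} {x : reesAlgebra I} (hx : x ∈ deg I n) : ev I x ∈ I ^ n :=
  ev_eq_coeff I hx ▸ x.2 n

theorem ev_gen (a : I) : ev I (gen I a) = a := by
  rw [ev_eq_coeff I (gen_mem I a)]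
  exact coeff_monomial_same _ _

theorem ev_algebraMap (r : A) : ev I (algebraMap A (reesAlgebra I) r) = r := by
  simp [ev]

theorem isUnit_ev_gen (a : I) :
    IsUnit (((algebraMap A (Localization.Away (a : A))).comp (ev I)) (gen I a)) := by
  rw [RingHom.comp_apply, ev_gen]
  exact IsLocalization.Away.algebraMap_isUnit _

/-- `(x Xⁿ)/(aX)ⁿ ↦ x/aⁿ`. -/
noncomputable def θ (a : I) : Away (deg I) (gen I a) →+* Localization.Away (a : A) :=
  (IsLocalization.Away.lift (gen I a) (isUnit_ev_gen I a)).comp
    (algebraMap (Away (deg I) (gen I a)) (Localization.Away (gen I a)))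

theorem θ_mk_mul (a : I) (n : ℕ) (x : reesAlgebra I) (hx : x ∈ deg I (n • 1)) :
    θ I a (Away.mk (deg I) (gen_mem I a) n x hx) * algebraMap A _ ((a : A) ^ n) =
      algebraMap A _ (ev I x) := by
  have h : (Away.mk (deg I) (gen_mem I a) n x hx).val *
        algebraMap (reesAlgebra I) (Localization.Away (gen I a)) (gen I a ^ n) =
      algebraMap (reesAlgebra I) (Localization.Away (gen I a)) x := by
    rw [Away.val_mk, Localization.mk_eq_mk']
    exact IsLocalization.mk'_spec (Localization.Away (gen I a)) x _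
  have h2 := congrArg (IsLocalization.Away.lift (gen I a) (isUnit_ev_gen I a)) h
  rw [map_mul, IsLocalization.Away.lift_eq, IsLocalization.Away.lift_eq, RingHom.comp_apply,
    RingHom.comp_apply, map_pow, ev_gen] at h2
  exact h2

theorem θ_injective (a : I) : Function.Injective (θ I a) := by
  rw [injective_iff_map_eq_zero]
  intro z hz
  obtain ⟨n, x, hx, rfl⟩ := Away.mk_surjective (deg I) (gen_mem I a) z
  have h := θ_mk_mul I a n x hx
  rw [hz, zero_mul] at h
  obtain ⟨⟨_, k, rfl⟩, hk⟩ :=
    (IsLocalization.map_eq_zero_iff (Submonoid.powers (a : A)) _ _).mp h.symm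
  have h0 : gen I a ^ k * x = 0 := by
    refine Subtype.ext ?_
    rw [Subalgebra.coe_mul, Subalgebra.coe_pow, Subalgebra.coe_zero, eq_monomial I hx]
    show monomial 1 (a : A) ^ k * _ = 0
    rw [monomial_pow, monomial_mul_monomial, ← ev_eq_coeff I hx]
    simp only at hk
    rw [hk, map_zero]
  apply HomogeneousLocalization.val_injective
  rw [Away.val_mk, HomogeneousLocalization.val_zero, Localization.mk_eq_mk',
    IsLocalization.mk'_eq_zero_iff]
  exact ⟨⟨_, k, rfl⟩, h0⟩

theorem mul_invSelf_pow_mem (a : I) : ∀ (n : ℕ) (x : A), x ∈ I ^ n →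
    algebraMap A (Localization.Away (a : A)) x * IsLocalization.Away.invSelf (a : A) ^ n ∈
      BlowUp.affineAlgebra A I (a : A) := by
  intro n
  induction n with
  | zero => intro x _; rw [pow_zero, mul_one]; exact Subalgebra.algebraMap_mem _ x
  | succ n ih =>
    intro x hx
    rw [pow_succ'] at hx
    refine Submodule.smul_induction_on hx (fun r hr s hs => ?_) fun y z hy hz => ?_
    · rw [smul_eq_mul, map_mul, pow_succ', mul_mul_mul_comm]
      refine Subalgebra.mul_mem _ (Algebra.subset_adjoin ⟨r, hr, ?_⟩) (ih s hs)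
      symm
      rw [IsLocalization.mk'_eq_iff_eq_mul, mul_assoc, mul_comm (IsLocalization.Away.invSelf (a : A)),
        IsLocalization.Away.mul_invSelf, mul_one]
    · rw [map_add, add_mul]; exact Subalgebra.add_mem _ hy hz

theorem θ_mem (a : I) (z : Away (deg I) (gen I a)) :
    θ I a z ∈ BlowUp.affineAlgebra A I (a : A) := by
  obtain ⟨n, x, hx, rfl⟩ := Away.mk_surjective (deg I) (gen_mem I a) z
  have h := θ_mk_mul I a n x hx
  have hx' : x ∈ deg I n := by simpa using hx
  have := mul_invSelf_pow_mem I a n _ (ev_mem I hx')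
  rw [← h, map_pow, mul_assoc, ← mul_pow, IsLocalization.Away.mul_invSelf, one_pow, mul_one] at this
  exact this

theorem θ_fromZero (a : I) (r : A) :
    θ I a (fromZeroRingHom (deg I) _
      (⟨algebraMap A (reesAlgebra I) r, SetLike.algebraMap_mem_graded (deg I) r⟩ : deg I 0)) =
      algebraMap A _ r := by
  have h : (fromZeroRingHom (deg I) (Submonoid.powers (gen I a))
      (⟨algebraMap A (reesAlgebra I) r, SetLike.algebraMap_mem_graded (deg I) r⟩ : deg I 0)).val =
      algebraMap (reesAlgebra I) (Localization.Away (gen I a))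
        (algebraMap A (reesAlgebra I) r) := Localization.mk_one_eq_algebraMap _
  refine (congrArg (IsLocalization.Away.lift (gen I a) (isUnit_ev_gen I a)) h).trans ?_
  rw [IsLocalization.Away.lift_eq, RingHom.comp_apply, ev_algebraMap]

theorem θ_surjective (a : I) {q : Localization.Away (a : A)}
    (hq : q ∈ BlowUp.affineAlgebra A I (a : A)) : ∃ z, θ I a z = q := by
  change q ∈ Algebra.adjoin _ _ at hq
  induction hq using Algebra.adjoin_induction with
  | mem q hq =>
    obtain ⟨x, hx, rfl⟩ := hq
    refine ⟨Away.mk (deg I) (gen_mem I a) 1 (gen I ⟨x, hx⟩) (by simpa using gen_mem I ⟨x, hx⟩), ?_⟩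
    rw [eq_comm, IsLocalization.mk'_eq_iff_eq_mul]
    have := θ_mk_mul I a 1 (gen I ⟨x, hx⟩) (by simpa using gen_mem I ⟨x, hx⟩)
    rw [pow_one, ev_gen] at this
    exact this.symm
  | algebraMap r => exact ⟨_, θ_fromZero I a r⟩
  | add p q _ _ hp hq =>
    obtain ⟨z, hz⟩ := hp; obtain ⟨w, hw⟩ := hq
    exact ⟨z + w, by rw [map_add, hz, hw]⟩
  | mul p q _ _ hp hq =>
    obtain ⟨z, hz⟩ := hp; obtain ⟨w, hw⟩ := hq
    exact ⟨z * w, by rw [map_mul, hz, hw]⟩

/-- The chart rings are the affine blow-up algebras. -/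
noncomputable def awayEquiv (a : I) :
    Away (deg I) (gen I a) ≃+* BlowUp.affineAlgebra A I (a : A) :=
  RingEquiv.ofBijective
    ((θ I a).codRestrict (BlowUp.affineAlgebra A I (a : A)).toSubring (θ_mem I a))
    ⟨fun _ _ h => θ_injective I a (congrArg Subtype.val h), fun q => by
      obtain ⟨z, hz⟩ := θ_surjective I a q.2
      exact ⟨z, Subtype.ext hz⟩⟩

theorem irrelevant_le_span_gen :
    ((deg I)₊).toIdeal ≤ Ideal.span (Set.range (gen I)) := by
  rw [HomogeneousIdeal.toIdeal_irrelevant_le]
  intro n hn x hx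
  have key : ∀ (m : ℕ) (r : A) (hr : r ∈ I ^ (m + 1)),
      (⟨monomial (m + 1) r, reesAlgebra.monomial_mem.mpr hr⟩ : reesAlgebra I) ∈
        Ideal.span (Set.range (gen I)) := by
    intro m r hr
    have hr' : r ∈ I * I ^ m := (pow_succ' I m).le hr
    refine (Submodule.smul_induction_on (p := fun r => ∃ h : r ∈ I ^ (m + 1),
      (⟨monomial (m + 1) r, reesAlgebra.monomial_mem.mpr h⟩ : reesAlgebra I) ∈
        Ideal.span (Set.range (gen I))) hr' (fun y hy s hs => ?_) fun y z hy hz => ?_).2
    · refine ⟨(pow_succ' I m).ge (Ideal.mul_mem_mul hy hs), ?_⟩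
      have e : (⟨monomial (m + 1) (y • s), reesAlgebra.monomial_mem.mpr
          ((pow_succ' I m).ge (Ideal.mul_mem_mul hy hs))⟩ : reesAlgebra I) =
          gen I ⟨y, hy⟩ * ⟨monomial m s, reesAlgebra.monomial_mem.mpr hs⟩ := Subtype.ext (by
        show monomial (m + 1) (y • s) = monomial 1 y * monomial m s
        rw [monomial_mul_monomial, add_comm, smul_eq_mul])
      rw [e]
      exact Ideal.mul_mem_right _ _ (Ideal.subset_span ⟨_, rfl⟩)
    · obtain ⟨hy0, hy'⟩ := hy
      obtain ⟨hz0, hz'⟩ := hz
      refine ⟨add_mem hy0 hz0, ?_⟩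
      convert add_mem hy' hz' using 1
      exact Subtype.ext (map_add (monomial (m + 1)) y z)
  obtain ⟨m, rfl⟩ := Nat.exists_eq_add_of_le' (Nat.one_le_iff_ne_zero.mpr hn.ne')
  have e : x = ⟨monomial (m + 1) ((x : A[X]).coeff (m + 1)),
      reesAlgebra.monomial_mem.mpr (x.2 (m + 1))⟩ := Subtype.ext (eq_monomial I hx)
  show x ∈ Ideal.span _
  rw [e]
  exact key m _ (x.2 (m + 1))

/-- The chart isomorphism as a homomorphism of rings. -/
noncomputable def awayHom (a : I) :
    CommRingCat.of (Away (deg I) (gen I a)) ⟶ CommRingCat.of (BlowUp.affineAlgebra A I (a : A)) :=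
  CommRingCat.ofHom ((θ I a).codRestrict (BlowUp.affineAlgebra A I (a : A)).toSubring (θ_mem I a))

instance (a : I) : IsIso (awayHom I a) :=
  (ConcreteCategory.isIso_iff_bijective (awayHom I a)).mpr (awayEquiv I a).bijective

/-- The projective spectrum of the Rees algebra. -/
noncomputable abbrev localBlowUp : Scheme.{u} := Proj (deg I)

/-- The structure map `A → S₀`. -/
noncomputable def toZero : A →+* deg I 0 where
  toFun r := ⟨algebraMap A (reesAlgebra I) r, SetLike.algebraMap_mem_graded (deg I) r⟩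
  map_one' := Subtype.ext (map_one (algebraMap A (reesAlgebra I)))
  map_mul' x y := Subtype.ext (map_mul (algebraMap A (reesAlgebra I)) x y)
  map_zero' := Subtype.ext (map_zero (algebraMap A (reesAlgebra I)))
  map_add' x y := Subtype.ext (map_add (algebraMap A (reesAlgebra I)) x y)

/-- The structure morphism. -/
noncomputable def toBase : localBlowUp I ⟶ Spec (CommRingCat.of A) :=
  Proj.toSpecZero (deg I) ≫ Spec.map (CommRingCat.ofHom (toZero I))

/-- The chart `Spec A[I/a]`. -/
noncomputable def chart (a : I) :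
    Spec (CommRingCat.of (BlowUp.affineAlgebra A I (a : A))) ⟶ localBlowUp I :=
  Spec.map (awayHom I a) ≫
    Proj.awayι (deg I) (gen I a) (gen_mem I a) Nat.one_pos

instance (a : I) : IsOpenImmersion (chart I a) := IsOpenImmersion.comp _ _

theorem opensRange_chart (a : I) :
    (chart I a).opensRange = Proj.basicOpen (deg I) (gen I a) :=
  (Scheme.Hom.opensRange_comp_of_isIso _ _).trans (Proj.opensRange_awayι ..)

@[reassoc]
theorem chart_toBase (a : I) :
    chart I a ≫ toBase I =
      Spec.map (CommRingCat.ofHom (algebraMap A (BlowUp.affineAlgebra A I (a : A)))) := by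
  rw [chart, toBase, Category.assoc, Proj.awayι_toSpecZero_assoc, ← Spec.map_comp, ← Spec.map_comp]
  congr 1
  ext r
  exact θ_fromZero I a r

theorem chart_covers (x : localBlowUp I) : ∃ a : I, x ∈ (chart I a).opensRange := by
  obtain ⟨a, ha⟩ := TopologicalSpace.Opens.mem_iSup.mp
    ((Proj.iSup_basicOpen_eq_top (deg I) (gen I) (irrelevant_le_span_gen I)).ge (Set.mem_univ x))
  exact ⟨a, by rwa [opensRange_chart]⟩

/-- On the chart of `b`, the open of the chart of `a` contains the locus where `a/b` is invertible. -/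
theorem chart_overlap (a b : I) :
    PrimeSpectrum.basicOpen (⟨IsLocalization.mk' (Localization.Away (b : A)) (a : A)
      ⟨(b : A), Submonoid.mem_powers _⟩, Algebra.subset_adjoin ⟨a, a.2, rfl⟩⟩ :
        BlowUp.affineAlgebra A I (b : A)) ≤
      (chart I b) ⁻¹ᵁ (chart I a).opensRange := by
  rw [opensRange_chart, chart, Scheme.Hom.comp_preimage,
    Proj.awayι_preimage_basicOpen (deg I) (gen_mem I b) Nat.one_pos (gen_mem I a) Nat.one_pos]
  intro p hp
  show (awayHom I b).hom (Away.isLocalizationElem (gen_mem I b) (gen_mem I a)) ∉ p.asIdeal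
  convert hp using 2
  refine Subtype.ext ?_
  have h : gen I a ^ 1 ∈ deg I (1 • 1) := by simpa using gen_mem I a
  show θ I b (Away.mk (deg I) (gen_mem I b) 1 (gen I a ^ 1) h) = _
  rw [eq_comm, IsLocalization.mk'_eq_iff_eq_mul]
  have := θ_mk_mul I b 1 (gen I a ^ 1) h
  rw [map_pow (ev I), ev_gen, pow_one (a : A), pow_one (b : A)] at this
  exact this.symm

end Groth.Agent.BlowUpLib
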